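import Groth.Agent.ResProp.EF.Grp
import Groth.Agent.HopfRep.K189.Antipode
import Mathlib.LinearAlgebra.Contraction

/-!
# `End T` as a comodule

`T` a comodule, finite projective over `k`, over a commutative Hopf algebra `A`.
-/

set_option autoImplicit false

universe u

open TensorProduct HopfRep

noncomputable section

namespace Groth.Agent.ResProp.EF.K192

section Ev

variable (k : Type u) [CommRing k] (T : Type u) [AddCommGroup T] [Module k T]

/-- the action of `End T ⊗ R` on `T ⊗ R` -/
def evR (R : Type u) [CommRing R] [Algebra k R] :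
    (Module.End k T ⊗[k] R) →ₗ[k] (T ⊗[k] R) →ₗ[k] (T ⊗[k] R) :=
  TensorProduct.map₂ (LinearMap.id : Module.End k T →ₗ[k] (T →ₗ[k] T)) (LinearMap.mul k R)

@[simp] theorem evR_tmul (R : Type u) [CommRing R] [Algebra k R] (φ : Module.End k T) (a b : R) (t : T) :
    evR k T R (φ ⊗ₜ a) (t ⊗ₜ b) = φ t ⊗ₜ (a * b) := rfl

/-- right multiplication -/
def rmul (R : Type u) [CommRing R] [Algebra k R] : (T ⊗[k] R) ⊗[k] R →ₗ[k] T ⊗[k] R :=
  (LinearMap.mul' k R).lTensor T ∘ₗ (TensorProduct.assoc k T R R).toLinearMap

@[simp] theorem rmul_tmul (R : Type u) [CommRing R] [Algebra k R] (a b : R) (t : T) :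
    rmul k T R ((t ⊗ₜ a) ⊗ₜ b) = t ⊗ₜ (a * b) := rfl

theorem rmul_one (R : Type u) [CommRing R] [Algebra k R] (z : T ⊗[k] R) : rmul k T R (z ⊗ₜ 1) = z := by
  induction z with
  | zero => simp
  | tmul t a => simp
  | add x y hx hy => simp only [add_tmul, map_add, hx, hy]

theorem rmul_rmul (R : Type u) [CommRing R] [Algebra k R] (z : T ⊗[k] R) (a b : R) :
    rmul k T R (rmul k T R (z ⊗ₜ a) ⊗ₜ b) = rmul k T R (z ⊗ₜ (a * b)) := by
  induction z with
  | zero => simp
  | tmul t a => simp [mul_assoc]
  | add x y hx hy => simp only [add_tmul, map_add, hx, hy]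

theorem evR_rmul (R : Type u) [CommRing R] [Algebra k R] (y : Module.End k T ⊗[k] R) (z : T ⊗[k] R) (a : R) :
    evR k T R y (rmul k T R (z ⊗ₜ a)) = rmul k T R (evR k T R y z ⊗ₜ a) := by
  induction y with
  | zero => simp
  | tmul φ b =>
    induction z with
    | zero => simp
    | tmul t c => simp [mul_assoc]
    | add x y hx hy => simp only [add_tmul, map_add, hx, hy]
  | add x y hx hy => simp only [add_tmul, map_add, LinearMap.add_apply, hx, hy]

end Ev

section Star

variable {k : Type u} [CommRing k] {A : Type u} [CommRing A] [HopfAlgebra k A]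
  {T : Type u} [AddCommGroup T] [Module k T] (c : Comod k A T)
  {R : Type u} [CommRing R] [Algebra k R]

/-- `f ⋆ x : t ↦ Σ f(t₀) x(t₁)` -/
def star (x : A →ₗ[k] R) : (T →ₗ[k] T ⊗[k] R) →ₗ[k] (T →ₗ[k] T ⊗[k] R) where
  toFun f := rmul k T R ∘ₗ TensorProduct.map f x ∘ₗ c.coact
  map_add' f g := by rw [TensorProduct.map_add_left, LinearMap.add_comp, LinearMap.comp_add]
  map_smul' r f := by rw [TensorProduct.map_smul_left, LinearMap.smul_comp, LinearMap.comp_smul]; rfl

theorem star_apply (x : A →ₗ[k] R) (f : T →ₗ[k] T ⊗[k] R) (t : T) :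
    star c x f t = rmul k T R (TensorProduct.map f x (c.coact t)) := rfl

theorem star_star (x y : A →ₗ[k] R) (f : T →ₗ[k] T ⊗[k] R) :
    star c y (star c x f) =
      star c (LinearMap.mul' k R ∘ₗ TensorProduct.map x y ∘ₗ CoalgebraStruct.comul (R := k) (A := A)) f := by
  refine LinearMap.ext fun t => ?_
  let F : T ⊗[k] (A ⊗[k] A) →ₗ[k] T ⊗[k] R :=
    rmul k T R ∘ₗ TensorProduct.map f (LinearMap.mul' k R ∘ₗ TensorProduct.map x y)
  have h1 : ∀ z : T ⊗[k] A, rmul k T R (TensorProduct.map (star c x f) y z) =
      F (TensorProduct.assoc k T A A (c.coact.rTensor A z)) := by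
    intro z
    induction z with
    | zero => simp
    | tmul u a =>
      rw [TensorProduct.map_tmul, star_apply, LinearMap.rTensor_tmul]
      generalize c.coact u = w
      induction w with
      | zero => simp
      | tmul s b =>
        rw [TensorProduct.map_tmul, rmul_rmul, TensorProduct.assoc_tmul]
        rfl
      | add p q hp hq => simp only [map_add, add_tmul, hp, hq]
    | add p q hp hq => simp only [map_add, hp, hq]
  have h2 := LinearMap.congr_fun c.coassoc t
  simp only [LinearMap.comp_apply, LinearEquiv.coe_coe] at h2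
  rw [star_apply, h1, h2]
  have h3 : ∀ z : T ⊗[k] A, F ((CoalgebraStruct.comul (R := k) (A := A)).lTensor T z) =
      rmul k T R (TensorProduct.map f
        (LinearMap.mul' k R ∘ₗ TensorProduct.map x y ∘ₗ CoalgebraStruct.comul (R := k) (A := A)) z) := by
    intro z
    induction z with
    | zero => simp
    | tmul u a => rfl
    | add p q hp hq => simp only [map_add, hp, hq]
  rw [h3]
  rfl

theorem star_counit (f : T →ₗ[k] T ⊗[k] R) :
    star c (Algebra.linearMap k R ∘ₗ CoalgebraStruct.counit (R := k) (A := A)) f = f := by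
  refine LinearMap.ext fun t => ?_
  have h1 : ∀ z : T ⊗[k] A, rmul k T R (TensorProduct.map f
      (Algebra.linearMap k R ∘ₗ CoalgebraStruct.counit (R := k) (A := A)) z) =
      rmul k T R (TensorProduct.map f (Algebra.linearMap k R)
        ((CoalgebraStruct.counit (R := k) (A := A)).lTensor T z)) := by
    intro z
    induction z with
    | zero => simp
    | tmul u a => rfl
    | add p q hp hq => simp only [map_add, hp, hq]
  have h2 := LinearMap.congr_fun c.counit_comp t
  simp only [LinearMap.comp_apply, LinearMap.flip_apply, TensorProduct.mk_apply] at h2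
  rw [star_apply, h1, h2, TensorProduct.map_tmul, Algebra.linearMap_apply, map_one, rmul_one]

theorem conv_inv_right (g : A →ₐ[k] R) :
    LinearMap.mul' k R ∘ₗ TensorProduct.map g.toLinearMap
      (g.toLinearMap ∘ₗ HopfAlgebraStruct.antipode k) ∘ₗ CoalgebraStruct.comul (R := k) (A := A) =
    Algebra.linearMap k R ∘ₗ CoalgebraStruct.counit (R := k) (A := A) := by
  refine LinearMap.ext fun a => ?_
  have h1 : ∀ z : A ⊗[k] A, LinearMap.mul' k R (TensorProduct.map g.toLinearMap
      (g.toLinearMap ∘ₗ HopfAlgebraStruct.antipode k) z) =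
      g (LinearMap.mul' k A ((HopfAlgebraStruct.antipode k (A := A)).lTensor A z)) := by
    intro z
    induction z with
    | zero => simp
    | tmul u a => simp
    | add p q hp hq => simp only [map_add, hp, hq]
  have h2 := HopfAlgebra.mul_antipode_lTensor_comul_apply (R := k) a
  simp only [LinearMap.comp_apply]
  rw [h1, h2, AlgHom.commutes]
  rfl

theorem conv_inv_left (g : A →ₐ[k] R) :
    LinearMap.mul' k R ∘ₗ TensorProduct.map (g.toLinearMap ∘ₗ HopfAlgebraStruct.antipode k)
      g.toLinearMap ∘ₗ CoalgebraStruct.comul (R := k) (A := A) =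
    Algebra.linearMap k R ∘ₗ CoalgebraStruct.counit (R := k) (A := A) := by
  refine LinearMap.ext fun a => ?_
  have h1 : ∀ z : A ⊗[k] A, LinearMap.mul' k R (TensorProduct.map
      (g.toLinearMap ∘ₗ HopfAlgebraStruct.antipode k) g.toLinearMap z) =
      g (LinearMap.mul' k A ((HopfAlgebraStruct.antipode k (A := A)).rTensor A z)) := by
    intro z
    induction z with
    | zero => simp
    | tmul u a => simp
    | add p q hp hq => simp only [map_add, hp, hq]
  have h2 := HopfAlgebra.mul_antipode_rTensor_comul_apply (R := k) a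
  simp only [LinearMap.comp_apply]
  rw [h1, h2, AlgHom.commutes]
  rfl

theorem star_inv_left (g : A →ₐ[k] R) (f : T →ₗ[k] T ⊗[k] R) :
    star c g.toLinearMap (star c (g.toLinearMap ∘ₗ HopfAlgebraStruct.antipode k) f) = f := by
  rw [star_star, conv_inv_left, star_counit]

theorem star_inv_right (g : A →ₐ[k] R) (f : T →ₗ[k] T ⊗[k] R) :
    star c (g.toLinearMap ∘ₗ HopfAlgebraStruct.antipode k) (star c g.toLinearMap f) = f := by
  rw [star_star, conv_inv_right, star_counit]

/-- `y ↦ (t ↦ y (t ⊗ 1))` -/
def th1 : (Module.End k T ⊗[k] R) →ₗ[k] (T →ₗ[k] T ⊗[k] R) where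
  toFun y := (evR k T R y) ∘ₗ (TensorProduct.mk k T R).flip 1
  map_add' x y := by rw [map_add, LinearMap.add_comp]
  map_smul' r x := by rw [map_smul, LinearMap.smul_comp]; rfl

theorem th1_apply (y : Module.End k T ⊗[k] R) (t : T) : th1 y t = evR k T R y (t ⊗ₜ 1) := rfl

theorem evR_eq_star (x : A →ₗ[k] R) (y : Module.End k T ⊗[k] R) (t : T) :
    evR k T R y (x.lTensor T (c.coact t)) = star c x (th1 y) t := by
  rw [star_apply]
  generalize c.coact t = z
  induction z with
  | zero => simp
  | tmul u a =>
    rw [TensorProduct.map_tmul, th1_apply, ← evR_rmul]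
    simp
  | add p q hp hq => simp only [map_add, hp, hq]

section Fin

variable [Module.Finite k T] [Module.Projective k T]

theorem th1_eq (y : Module.End k T ⊗[k] R) : th1 y = rTensorHomEquivHomRTensor k T T R y := by
  refine LinearMap.ext fun t => ?_
  rw [rTensorHomEquivHomRTensor_apply, th1_apply]
  induction y with
  | zero => simp
  | tmul φ a => simp
  | add p q hp hq => simp only [map_add, LinearMap.add_apply, hp, hq]

theorem th1_bijective : Function.Bijective (th1 : (Module.End k T ⊗[k] R) →ₗ[k] (T →ₗ[k] T ⊗[k] R)) := by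
  have h : (th1 : (Module.End k T ⊗[k] R) →ₗ[k] (T →ₗ[k] T ⊗[k] R)) =
      (rTensorHomEquivHomRTensor k T T R).toLinearMap := LinearMap.ext fun y => th1_eq y
  rw [h]
  exact (rTensorHomEquivHomRTensor k T T R).bijective

/-- **key**: an element of `End T ⊗ R` is determined by its action on the twisted vectors `g t` -/
theorem ext_pt (g : A →ₐ[k] R) {y y' : Module.End k T ⊗[k] R}
    (h : ∀ t, evR k T R y (g.toLinearMap.lTensor T (c.coact t)) =
      evR k T R y' (g.toLinearMap.lTensor T (c.coact t))) : y = y' := by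
  apply th1_bijective.1
  have h1 : star c g.toLinearMap (th1 y) = star c g.toLinearMap (th1 y') := by
    refine LinearMap.ext fun t => ?_
    rw [← evR_eq_star, ← evR_eq_star, h]
  rw [← star_inv_right c g (th1 y), h1, star_inv_right]

/-- there is an element with prescribed action -/
theorem exists_pt (g : A →ₐ[k] R) (f : T →ₗ[k] T ⊗[k] R) :
    ∃ y : Module.End k T ⊗[k] R, ∀ t, evR k T R y (g.toLinearMap.lTensor T (c.coact t)) = f t := by
  obtain ⟨y, hy⟩ := th1_bijective.2 (star c (g.toLinearMap ∘ₗ HopfAlgebraStruct.antipode k) f)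
  refine ⟨y, fun t => ?_⟩
  rw [evR_eq_star, hy, star_inv_left]

end Fin

end Star

section Coact

variable {k : Type u} [CommRing k] {A : Type u} [CommRing A] [HopfAlgebra k A]
  {T : Type u} [AddCommGroup T] [Module k T]

theorem evR_lTensor {R S : Type u} [CommRing R] [Algebra k R] [CommRing S] [Algebra k S] (g : R →ₐ[k] S)
    (y : Module.End k T ⊗[k] R) (z : T ⊗[k] R) :
    evR k T S (g.toLinearMap.lTensor _ y) (g.toLinearMap.lTensor T z) = g.toLinearMap.lTensor T (evR k T R y z) := by
  induction y with
  | zero => simp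
  | tmul φ a =>
    induction z with
    | zero => simp
    | tmul t b => simp
    | add p q hp hq => simp only [map_add, hp, hq]
  | add p q hp hq => simp only [map_add, LinearMap.add_apply, hp, hq]

theorem evR_assoc (y : Module.End k T ⊗[k] A) (z : T ⊗[k] A) (a b : A) :
    evR k T (A ⊗[k] A) (TensorProduct.assoc k _ A A (y ⊗ₜ a)) (TensorProduct.assoc k T A A (z ⊗ₜ b)) =
      TensorProduct.assoc k T A A (evR k T A y z ⊗ₜ (a * b)) := by
  induction y with
  | zero => simp
  | tmul φ c =>
    induction z with
    | zero => simp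
    | tmul t d => simp
    | add p q hp hq => simp only [map_add, add_tmul, hp, hq]
  | add p q hp hq => simp only [map_add, add_tmul, LinearMap.add_apply, hp, hq]

variable (c : Comod k A T) [Module.Finite k T] [Module.Projective k T]

/-- the coaction on `End T` -/
def coactE : Module.End k T →ₗ[k] Module.End k T ⊗[k] A where
  toFun φ := (LinearEquiv.ofBijective th1 (th1_bijective (k := k) (T := T) (R := A))).symm
    (star c (HopfAlgebraStruct.antipode k) (c.coact ∘ₗ φ))
  map_add' φ ψ := by rw [LinearMap.comp_add, map_add, map_add]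
  map_smul' r φ := by rw [LinearMap.comp_smul, map_smul, map_smul]; rfl

theorem coactE_spec (φ : Module.End k T) (t : T) :
    evR k T A (coactE c φ) (c.coact t) = c.coact (φ t) := by
  have h1 : th1 (coactE c φ) = star c (HopfAlgebraStruct.antipode k) (c.coact ∘ₗ φ) :=
    (LinearEquiv.ofBijective th1 (th1_bijective (k := k) (T := T) (R := A))).apply_symm_apply _
  have h2 := evR_eq_star c (AlgHom.id k A).toLinearMap (coactE c φ) t
  have h3 : (AlgHom.id k A).toLinearMap.lTensor T (c.coact t) = c.coact t := by
    rw [AlgHom.toLinearMap_id, LinearMap.lTensor_id, LinearMap.id_apply]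
  have h4 : (HopfAlgebraStruct.antipode k : A →ₗ[k] A) =
      (AlgHom.id k A).toLinearMap ∘ₗ HopfAlgebraStruct.antipode k := by
    rw [AlgHom.toLinearMap_id, LinearMap.id_comp]
  rw [h3] at h2
  rw [h2, h1, h4, star_inv_left]
  rfl

theorem coactE_pt {R : Type u} [CommRing R] [Algebra k R] (g : A →ₐ[k] R) (φ : Module.End k T) (t : T) :
    evR k T R (g.toLinearMap.lTensor _ (coactE c φ)) (g.toLinearMap.lTensor T (c.coact t)) =
      g.toLinearMap.lTensor T (c.coact (φ t)) := by
  rw [evR_lTensor, coactE_spec]

theorem coassocE (φ : Module.End k T) :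
    TensorProduct.assoc k _ A A ((coactE c).rTensor A (coactE c φ)) =
      (CoalgebraStruct.comul (R := k) (A := A)).lTensor _ (coactE c φ) := by
  apply ext_pt c (Bialgebra.comulAlgHom k A)
  intro t
  have h0 : (Bialgebra.comulAlgHom k A).toLinearMap = CoalgebraStruct.comul (R := k) (A := A) := rfl
  have h1 := coactE_pt c (Bialgebra.comulAlgHom k A) φ t
  rw [h0] at h1 ⊢
  rw [h1]
  have hc : ∀ s : T, (CoalgebraStruct.comul (R := k) (A := A)).lTensor T (c.coact s) =
      TensorProduct.assoc k T A A (c.coact.rTensor A (c.coact s)) := fun s =>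
    (LinearMap.congr_fun c.coassoc s).symm
  rw [hc, hc]
  have h2 : ∀ (y : Module.End k T ⊗[k] A) (z : T ⊗[k] A),
      evR k T (A ⊗[k] A) (TensorProduct.assoc k _ A A ((coactE c).rTensor A y))
        (TensorProduct.assoc k T A A (c.coact.rTensor A z)) =
      TensorProduct.assoc k T A A (c.coact.rTensor A (evR k T A y z)) := by
    intro y z
    induction y with
    | zero => simp
    | tmul ψ a =>
      induction z with
      | zero => simp
      | tmul s b =>
        rw [LinearMap.rTensor_tmul, LinearMap.rTensor_tmul, evR_assoc, coactE_spec, evR_tmul,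
          LinearMap.rTensor_tmul]
      | add p q hp hq => simp only [map_add, hp, hq]
    | add p q hp hq => simp only [map_add, LinearMap.add_apply, hp, hq]
  rw [h2, coactE_spec]

theorem counitE (φ : Module.End k T) :
    (CoalgebraStruct.counit (R := k) (A := A)).lTensor _ (coactE c φ) = φ ⊗ₜ (1 : k) := by
  apply ext_pt c (Bialgebra.counitAlgHom k A)
  intro t
  have h0 : (Bialgebra.counitAlgHom k A).toLinearMap = CoalgebraStruct.counit (R := k) (A := A) := rfl
  have h1 := coactE_pt c (Bialgebra.counitAlgHom k A) φ t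
  rw [h0] at h1 ⊢
  have hc : ∀ s : T, (CoalgebraStruct.counit (R := k) (A := A)).lTensor T (c.coact s) = s ⊗ₜ 1 := fun s =>
    LinearMap.congr_fun c.counit_comp s
  rw [h1, hc, hc, evR_tmul, mul_one]

/-- the comodule structure on `End T` -/
@[reducible] def comodE : Comod k A (Module.End k T) where
  coact := coactE c
  coassoc := LinearMap.ext fun φ => coassocE c φ
  counit_comp := LinearMap.ext fun φ => counitE c φ

end Coact

section Grp

open Groth.Agent.ResProp.EF.Grp

variable {k : Type u} [CommRing k]

section J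

variable {A : Type u} [CommRing A] [Algebra k A] {V W : Type u} [AddCommGroup V] [Module k V]
  [AddCommGroup W] [Module k W]

/-- `(v ⊗ a, w ⊗ b) ↦ (v ⊗ w) ⊗ ab` -/
def J (y : V ⊗[k] A) (z : W ⊗[k] A) : (V ⊗[k] W) ⊗[k] A :=
  TensorProduct.map LinearMap.id (LinearMap.mul' k A)
    (AlgebraTensorModule.tensorTensorTensorComm k k k k V A W A (y ⊗ₜ[k] z))

theorem J_tmul (v : V) (a : A) (w : W) (b : A) : J (v ⊗ₜ[k] a) (w ⊗ₜ[k] b) = (v ⊗ₜ w) ⊗ₜ (a * b) := rfl

theorem J_zero_left (z : W ⊗[k] A) : J (0 : V ⊗[k] A) z = 0 := by simp [J]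

theorem J_zero_right (z : V ⊗[k] A) : J z (0 : W ⊗[k] A) = 0 := by simp [J]

theorem J_add_left (y y' : V ⊗[k] A) (z : W ⊗[k] A) : J (y + y') z = J y z + J y' z := by
  simp only [J, add_tmul, map_add]

theorem J_add_right (y : V ⊗[k] A) (z z' : W ⊗[k] A) : J y (z + z') = J y z + J y z' := by
  simp only [J, tmul_add, map_add]

end J

theorem tens_coact {E : Gp k} (M N : GMod E) (m : M.V) (n : N.V) :
    (M.tens N).co.coact (m ⊗ₜ[k] n) = J (M.co.coact m) (N.co.coact n) := rfl

section Any

variable {A : Type u} [CommRing A] [Algebra k A] {T T' : Type u} [AddCommGroup T] [Module k T]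
  [AddCommGroup T'] [Module k T']

theorem rTensor_lift_J (y : Module.End k T ⊗[k] A) (z : T ⊗[k] A) :
    (TensorProduct.lift (LinearMap.id : Module.End k T →ₗ[k] (T →ₗ[k] T))).rTensor A (J y z) = evR k T A y z := by
  induction y with
  | zero => simp [J_zero_left]
  | tmul φ a =>
    induction z with
    | zero => simp [J_zero_right]
    | tmul t b => rw [J_tmul]; rfl
    | add p q hp hq => simp only [map_add, J_add_right, hp, hq]
  | add p q hp hq => simp only [map_add, J_add_left, LinearMap.add_apply, hp, hq]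

theorem evR_hom_J (y : Module.End k T ⊗[k] A) (y' : Module.End k T' ⊗[k] A) (z : T ⊗[k] A) (z' : T' ⊗[k] A) :
    evR k (T ⊗[k] T') A ((TensorProduct.homTensorHomMap (RingHom.id k) T T' T T').rTensor A (J y y')) (J z z') =
      J (evR k T A y z) (evR k T' A y' z') := by
  induction y with
  | zero => simp [J_zero_left]
  | tmul φ a =>
    induction y' with
    | zero => simp [J_zero_right]
    | tmul ψ a' =>
      induction z with
      | zero => simp [J_zero_left]
      | tmul t b =>
        induction z' with
        | zero => simp [J_zero_right]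
        | tmul t' b' =>
          rw [J_tmul, J_tmul, evR_tmul, evR_tmul, J_tmul, LinearMap.rTensor_tmul, evR_tmul,
            TensorProduct.homTensorHomMap_apply, TensorProduct.map_tmul, mul_mul_mul_comm]
        | add p q hp hq => simp only [map_add, J_add_right, hp, hq]
      | add p q hp hq => simp only [map_add, J_add_left, hp, hq]
    | add p q hp hq => simp only [map_add, J_add_right, LinearMap.add_apply, hp, hq]
  | add p q hp hq => simp only [map_add, J_add_left, LinearMap.add_apply, hp, hq]

theorem evR_mul_J (y y' : Module.End k T ⊗[k] A) (z : T ⊗[k] A) :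
    evR k T A ((LinearMap.mul' k (Module.End k T)).rTensor A (J y y')) z = evR k T A y (evR k T A y' z) := by
  induction y with
  | zero => simp [J_zero_left]
  | tmul φ a =>
    induction y' with
    | zero => simp [J_zero_right]
    | tmul ψ a' =>
      induction z with
      | zero => simp
      | tmul t b =>
        rw [J_tmul, LinearMap.rTensor_tmul, evR_tmul, evR_tmul, evR_tmul, mul_assoc]
        rfl
      | add p q hp hq => simp only [map_add, hp, hq]
    | add p q hp hq => simp only [map_add, J_add_right, LinearMap.add_apply, hp, hq]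
  | add p q hp hq => simp only [map_add, J_add_left, LinearMap.add_apply, hp, hq]

end Any

variable {E : Gp k}

/-- the defining property of `EndStr` -/
theorem ev_iff (T : GMod E) (co : Comod k E.O (Module.End k T.V)) :
    (@Hoch.IsComodHom k _ E.O _ _ _ (Module.End k T.V ⊗[k] T.V) _ _
      (ComodTens.Comod.tensor co T.co) T.V _ _ T.co (TensorProduct.lift LinearMap.id)) ↔
      ∀ (φ : Module.End k T.V) (t : T.V), evR k T.V E.O (co.coact φ) (T.co.coact t) = T.co.coact (φ t) := by
  constructor
  · intro h φ t
    have h1 := LinearMap.congr_fun h (φ ⊗ₜ t)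
    have h2 : (TensorProduct.lift (LinearMap.id : Module.End k T.V →ₗ[k] (T.V →ₗ[k] T.V))).rTensor E.O
        (J (co.coact φ) (T.co.coact t)) = evR k T.V E.O (co.coact φ) (T.co.coact t) := rTensor_lift_J _ _
    rw [← h2]
    exact h1.symm
  · intro h
    refine TensorProduct.ext' fun φ t => ?_
    have h2 : (TensorProduct.lift (LinearMap.id : Module.End k T.V →ₗ[k] (T.V →ₗ[k] T.V))).rTensor E.O
        (J (co.coact φ) (T.co.coact t)) = evR k T.V E.O (co.coact φ) (T.co.coact t) := rTensor_lift_J _ _
    exact (h φ t).symm.trans h2.symm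

theorem _root_.Groth.Agent.ResProp.EF.Grp.EndStr.spec {T : GMod E} (e : EndStr T) (φ : Module.End k T.V) (t : T.V) :
    evR k T.V E.O (e.co.coact φ) (T.co.coact t) = T.co.coact (φ t) := (ev_iff T e.co).1 e.ev φ t

section Fin

variable (T : GMod E) [Module.Finite k T.V] [Module.Projective k T.V]

/-- **(1)** `End T` is a comodule -/
def endStr : EndStr T where
  co := comodE T.co
  ev := (ev_iff T (comodE T.co)).2 fun φ t => coactE_spec T.co φ t

theorem exists_endStr : Nonempty (EndStr T) := ⟨endStr T⟩

variable {T}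

theorem ext_pt' {y y' : Module.End k T.V ⊗[k] E.O}
    (h : ∀ t, evR k T.V E.O y (T.co.coact t) = evR k T.V E.O y' (T.co.coact t)) : y = y' := by
  apply ext_pt T.co (AlgHom.id k E.O)
  intro t
  rw [AlgHom.toLinearMap_id, LinearMap.lTensor_id, LinearMap.id_apply, h]

/-- **(4)** uniqueness -/
theorem coact_unique (e e' : EndStr T) (φ : Module.End k T.V) : e.co.coact φ = e'.co.coact φ :=
  ext_pt' fun t => by rw [e.spec, e'.spec]

theorem co_unique (e e' : EndStr T) : e.co = e'.co := by
  have h : e.co.coact = e'.co.coact := LinearMap.ext fun φ => coact_unique e e' φ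
  obtain ⟨⟨c, h1, h2⟩, h3⟩ := e
  obtain ⟨⟨c', h1', h2'⟩, h3'⟩ := e'
  change c = c' at h
  subst h
  rfl

instance : Subsingleton (EndStr T) := ⟨fun e e' => by
  have h := co_unique e e'
  obtain ⟨c, h1⟩ := e
  obtain ⟨c', h1'⟩ := e'
  change c = c' at h
  subst h
  rfl⟩

/-- **(2)** `1` is invariant -/
theorem coact_one (e : EndStr T) : e.co.coact 1 = 1 ⊗ₜ 1 := by
  apply ext_pt'
  intro t
  rw [e.spec]
  have : ∀ z : T.V ⊗[k] E.O, evR k T.V E.O (1 ⊗ₜ 1) z = z := by
    intro z
    induction z with
    | zero => simp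
    | tmul t a => simp
    | add p q hp hq => simp only [map_add, hp, hq]
  rw [this]
  rfl

/-- **(3)** `m ↦ m ⊗ 1` is a morphism -/
theorem isComodHom_tmulR_one (M : GMod E) (e : EndStr T) :
    @Hoch.IsComodHom k _ E.O _ _ _ M.V _ _ M.co (M.tens e.mod).V _ _ (M.tens e.mod).co (tmulR M e.mod 1) := by
  refine LinearMap.ext fun m => ?_
  have h1 : (M.tens e.mod).co.coact (m ⊗ₜ[k] (1 : Module.End k T.V)) = J (M.co.coact m) (e.co.coact 1) := rfl
  have h2 : ∀ z : M.V ⊗[k] E.O, J z ((1 : Module.End k T.V) ⊗ₜ[k] (1 : E.O)) = (tmulR M e.mod 1).rTensor E.O z := by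
    intro z
    induction z with
    | zero => simp [J_zero_left]
    | tmul t a => rw [J_tmul, mul_one]; rfl
    | add p q hp hq => simp only [map_add, J_add_left, hp, hq]
  have h3 := h2 (M.co.coact m)
  rw [← coact_one e] at h3
  exact h1.trans h3

/-- the adjunction criterion -/
theorem isComodHom_iff_adj (X : GMod E) (e : EndStr T) (f : X.V →ₗ[k] Module.End k T.V) :
    (@Hoch.IsComodHom k _ E.O _ _ _ X.V _ _ X.co (Module.End k T.V) _ _ e.co f) ↔
      ∀ x t, evR k T.V E.O (f.rTensor E.O (X.co.coact x)) (T.co.coact t) = T.co.coact (f x t) := by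
  constructor
  · intro h x t
    have h1 : f.rTensor E.O (X.co.coact x) = e.co.coact (f x) := (LinearMap.congr_fun h x).symm
    rw [h1, e.spec]
  · intro h
    refine LinearMap.ext fun x => ?_
    have h1 : e.co.coact (f x) = f.rTensor E.O (X.co.coact x) := ext_pt' fun t => by rw [h, e.spec]
    exact h1

/-- a linear map `X → End T` is a morphism iff `X ⊗ T → T` is -/
theorem isComodHom_iff_lift (X : GMod E) (e : EndStr T) (f : X.V →ₗ[k] Module.End k T.V) :
    (@Hoch.IsComodHom k _ E.O _ _ _ X.V _ _ X.co (Module.End k T.V) _ _ e.co f) ↔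
      (@Hoch.IsComodHom k _ E.O _ _ _ (X.tens T).V _ _ (X.tens T).co T.V _ _ T.co (TensorProduct.lift f)) := by
  have key : ∀ (w : X.V ⊗[k] E.O) (z : T.V ⊗[k] E.O),
      (TensorProduct.lift f).rTensor E.O (J w z) = evR k T.V E.O (f.rTensor E.O w) z := by
    intro w z
    induction w with
    | zero => simp [J_zero_left]
    | tmul x a =>
      induction z with
      | zero => simp [J_zero_right]
      | tmul t b => rw [J_tmul]; rfl
      | add p q hp hq => simp only [map_add, J_add_right, hp, hq]
    | add p q hp hq => simp only [map_add, J_add_left, LinearMap.add_apply, hp, hq]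
  rw [isComodHom_iff_adj]
  constructor
  · intro h
    refine TensorProduct.ext' fun x t => ?_
    exact (h x t).symm.trans (key _ _).symm
  · intro h x t
    have h1 := LinearMap.congr_fun h (x ⊗ₜ t)
    exact (key _ _).symm.trans h1.symm

end Fin

/-- **(5)** restriction -/
def resStr {E' : Gp k} (φ : E.O →ₐc[k] E'.O) {T : GMod E} (e : EndStr T) : EndStr (T.res φ) where
  co := GLin.comodAlong φ e.co
  ev := by
    rw [ev_iff]
    intro ψ t
    have h := evR_lTensor (T := T.V) (φ : E.O →ₐ[k] E'.O) (e.co.coact ψ) (T.co.coact t)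
    rw [e.spec] at h
    exact h

theorem resStr_co {E' : Gp k} (φ : E.O →ₐc[k] E'.O) {T : GMod E} (e : EndStr T) :
    (resStr φ e).co = GLin.comodAlong φ e.co := rfl

section Tens

variable {T T' : GMod E} [Module.Finite k T.V] [Module.Projective k T.V]
  [Module.Finite k T'.V] [Module.Projective k T'.V]

/-- **(6)** `End T ⊗ End T' → End (T ⊗ T')` is a morphism -/
theorem isComodHom_homTensorHom (e : EndStr T) (e' : EndStr T') (e'' : EndStr (T.tens T')) :
    @Hoch.IsComodHom k _ E.O _ _ _ (e.mod.tens e'.mod).V _ _ (e.mod.tens e'.mod).co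
      (Module.End k (T.V ⊗[k] T'.V)) _ _ e''.co (TensorProduct.homTensorHomMap (RingHom.id k) T.V T'.V T.V T'.V) := by
  have : Module.Finite k (T.tens T').V := inferInstanceAs (Module.Finite k (T.V ⊗[k] T'.V))
  have : Module.Projective k (T.tens T').V := inferInstanceAs (Module.Projective k (T.V ⊗[k] T'.V))
  rw [isComodHom_iff_adj (e.mod.tens e'.mod) e'']
  intro x w
  induction x using TensorProduct.induction_on with
  | zero => simp
  | tmul φ ψ =>
    induction w using TensorProduct.induction_on with
    | zero => simp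
    | tmul t t' =>
      have h := evR_hom_J (e.co.coact φ) (e'.co.coact ψ) (T.co.coact t) (T'.co.coact t')
      rw [e.spec, e'.spec] at h
      exact h
    | add p q hp hq => simp only [map_add, hp, hq]
  | add p q hp hq => simp only [map_add, LinearMap.add_apply, hp, hq]

/-- composition is a morphism -/
theorem isComodHom_mul (e : EndStr T) :
    @Hoch.IsComodHom k _ E.O _ _ _ (e.mod.tens e.mod).V _ _ (e.mod.tens e.mod).co
      (Module.End k T.V) _ _ e.co (LinearMap.mul' k (Module.End k T.V)) := by
  rw [isComodHom_iff_adj (e.mod.tens e.mod) e]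
  intro x t
  induction x using TensorProduct.induction_on with
  | zero => simp
  | tmul φ ψ =>
    have h := evR_mul_J (e.co.coact φ) (e.co.coact ψ) (T.co.coact t)
    rw [e.spec, e.spec] at h
    exact h
  | add p q hp hq => simp only [map_add, LinearMap.add_apply, hp, hq]

end Tens

end Grp

end Groth.Agent.ResProp.EF.K192

end
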