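import Mathlib.RingTheory.Localization.Away.Basic
import Mathlib.LinearAlgebra.Matrix.Determinant.Basic
import Mathlib.LinearAlgebra.Matrix.NonsingularInverse
import Mathlib.Algebra.MvPolynomial.Basic
import Mathlib.RingTheory.RingHom.FaithfullyFlat
import Mathlib.RingTheory.RingHom.Smooth
import Mathlib.RingTheory.TensorProduct.Basic

/-!
# The ring of matrices with given first column

`CC f` (over a ring `B`, `f : Fin (m+1) → B`) represents `{g ∈ GL_(m+1) : g e_0 = f}`.
-/

set_option autoImplicit false

namespace Groth.Agent.ResProp.EF.K192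

universe u v w

open MvPolynomial

section Def

variable {B : Type u} [CommRing B] {m : ℕ} (f : Fin (m + 1) → B)

/-- the matrix with first column `f` and free other columns -/
noncomputable def colMat : Matrix (Fin (m + 1)) (Fin (m + 1)) (MvPolynomial (Fin (m + 1) × Fin m) B) :=
  Matrix.of fun i => Fin.cons (C (f i)) (fun j => X (i, j))

theorem colMat_zero (i : Fin (m + 1)) : colMat f i 0 = C (f i) := rfl

theorem colMat_succ (i : Fin (m + 1)) (j : Fin m) : colMat f i j.succ = X (i, j) := rfl

/-- the ring `B[g_ab, 1/det g]/(g_(i0) - f_i)` -/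
abbrev CC : Type u := Localization.Away (colMat f).det

/-- the universal matrix -/
noncomputable def um : Matrix (Fin (m + 1)) (Fin (m + 1)) (CC f) :=
  (colMat f).map (algebraMap (MvPolynomial (Fin (m + 1) × Fin m) B) (CC f))

theorem um_apply (i j : Fin (m + 1)) : um f i j = algebraMap _ (CC f) (colMat f i j) := rfl

theorem um_zero (i : Fin (m + 1)) : um f i 0 = algebraMap B (CC f) (f i) := by
  rw [um_apply, colMat_zero]
  rw [IsScalarTower.algebraMap_apply B (MvPolynomial (Fin (m + 1) × Fin m) B) (CC f)]
  rfl

theorem isUnit_um : IsUnit (um f).det := by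
  rw [um, ← RingHom.mapMatrix_apply, ← RingHom.map_det]
  exact IsLocalization.Away.algebraMap_isUnit _

/-- the entries of the first column generate the unit ideal -/
theorem span_col : Ideal.span (Set.range fun i => algebraMap B (CC f) (f i)) = ⊤ := by
  refine Ideal.eq_top_of_isUnit_mem _ ?_ (isUnit_um f)
  refine (congrArg (· ∈ Ideal.span (Set.range fun i => algebraMap B (CC f) (f i)))
    (Matrix.det_succ_column_zero (um f))).mpr ?_
  refine Ideal.sum_mem _ fun i _ => ?_
  refine Ideal.mul_mem_right _ _ (Ideal.mul_mem_left _ _ ?_)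
  rw [um_zero]
  exact Ideal.subset_span ⟨i, rfl⟩

variable {R : Type v} [CommRing R] [Algebra B R]

/-- the homomorphism of polynomial rings given by a matrix -/
noncomputable def preLift (g : Matrix (Fin (m + 1)) (Fin (m + 1)) R) :
    MvPolynomial (Fin (m + 1) × Fin m) B →ₐ[B] R := aeval fun p => g p.1 p.2.succ

theorem preLift_colMat (g : Matrix (Fin (m + 1)) (Fin (m + 1)) R)
    (h0 : ∀ i, g i 0 = algebraMap B R (f i)) : (colMat f).map (preLift (B := B) g) = g := by
  ext i j
  refine Fin.cases ?_ (fun j => ?_) j
  · rw [Matrix.map_apply, colMat_zero, h0, preLift, aeval_C]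
  · rw [Matrix.map_apply, colMat_succ, preLift, aeval_X]

/-- the universal property -/
noncomputable def lift (g : Matrix (Fin (m + 1)) (Fin (m + 1)) R) (hg : IsUnit g.det)
    (h0 : ∀ i, g i 0 = algebraMap B R (f i)) : CC f →ₐ[B] R :=
  IsLocalization.liftAlgHom (M := Submonoid.powers (colMat f).det) (f := preLift (B := B) g) (by
    rintro ⟨y, k, rfl⟩
    simp only [map_pow]
    refine IsUnit.pow _ ?_
    rw [AlgHom.map_det, AlgHom.mapMatrix_apply, preLift_colMat f g h0]
    exact hg)

theorem lift_um (g : Matrix (Fin (m + 1)) (Fin (m + 1)) R) (hg : IsUnit g.det)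
    (h0 : ∀ i, g i 0 = algebraMap B R (f i)) : (um f).map (lift f g hg h0) = g := by
  ext i j
  rw [Matrix.map_apply, um_apply, lift, IsLocalization.liftAlgHom_apply, IsLocalization.lift_eq]
  exact congrFun (congrFun (preLift_colMat f g h0) i) j

variable {f} in
theorem hom_ext {φ ψ : CC f →ₐ[B] R} (h : (um f).map φ = (um f).map ψ) : φ = ψ := by
  apply AlgHom.coe_ringHom_injective
  refine IsLocalization.ringHom_ext (Submonoid.powers (colMat f).det) ?_
  refine MvPolynomial.ringHom_ext (fun b => ?_) (fun p => ?_)
  · have h1 : algebraMap (MvPolynomial (Fin (m + 1) × Fin m) B) (CC f) (C b) = algebraMap B (CC f) b := by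
      rw [IsScalarTower.algebraMap_apply B (MvPolynomial (Fin (m + 1) × Fin m) B) (CC f)]
      rfl
    show φ (algebraMap _ _ (C b)) = ψ (algebraMap _ _ (C b))
    rw [h1, φ.commutes, ψ.commutes]
  · exact congrFun (congrFun h p.1) p.2.succ

instance flat_CC : Module.Flat B (CC f) :=
  Module.Flat.trans B (MvPolynomial (Fin (m + 1) × Fin m) B) (CC f)

instance finitePresentation_CC : Algebra.FinitePresentation B (CC f) :=
  have : Algebra.FinitePresentation (MvPolynomial (Fin (m + 1) × Fin m) B) (CC f) :=
    IsLocalization.Away.finitePresentation (colMat f).det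
  Algebra.FinitePresentation.trans B (MvPolynomial (Fin (m + 1) × Fin m) B) (CC f)

instance smooth_CC : Algebra.Smooth B (CC f) where
  formallySmooth :=
    have : Algebra.FormallySmooth (MvPolynomial (Fin (m + 1) × Fin m) B) (CC f) :=
      Algebra.FormallySmooth.of_isLocalization (Submonoid.powers (colMat f).det)
    Algebra.FormallySmooth.comp B (MvPolynomial (Fin (m + 1) × Fin m) B) (CC f)
  finitePresentation := inferInstance

end Def

section Torsor

open TensorProduct

variable {B : Type u} [CommRing B] {m : ℕ} (f : Fin (m + 1) → B)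

/-- `(1, 0, .., 0)` -/
def e0 (k : Type v) [CommRing k] (m : ℕ) : Fin (m + 1) → k := Pi.single 0 1

/-- the coordinate ring of the stabilizer of `e_0` in `GL_(m+1)` -/
abbrev StabO (k : Type v) [CommRing k] (m : ℕ) : Type v := CC (e0 k m)

end Torsor

end Groth.Agent.ResProp.EF.K192
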